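import Groth.Agent.Lib.Ample.Immersion
import Mathlib.AlgebraicGeometry.AffineSpace
import Mathlib.AlgebraicGeometry.QuasiAffine
import Mathlib.AlgebraicGeometry.Morphisms.QuasiSeparated
import Mathlib.AlgebraicGeometry.Morphisms.FiniteType

/-!
# Quasi-affine schemes of finite type embed into affine space over any base
-/

universe u

set_option autoImplicit false
set_option linter.style.haveILetI false
set_option backward.isDefEq.respectTransparency false

open AlgebraicGeometry CategoryTheory CategoryTheory.Limits TopologicalSpace Opposite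
open AlgebraicGeometry.AffineSpace

noncomputable section

namespace GrothLib.AmpleQA

variable {X S : Scheme.{u}}

/-- Functions whose non-vanishing loci are affine over affine opens of the base, with generators. -/
theorem exists_chart (π : X ⟶ S) [LocallyOfFiniteType π] [X.IsQuasiAffine] (x : X) :
    ∃ (V : S.Opens) (f : Γ(X, ⊤)) (G : Finset Γ(X, ⊤)) (h : X.basicOpen f ≤ π ⁻¹ᵁ V),
      IsAffineOpen V ∧ IsAffineOpen (X.basicOpen f) ∧ x ∈ X.basicOpen f ∧
      ∀ b : Γ(X, X.basicOpen f), ∃ n : ℕ,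
        (X.presheaf.map (homOfLE (X.basicOpen_le f)).op).hom f ^ n * b ∈ Subring.closure
          (Set.range (π.appLE V (X.basicOpen f) h).hom ∪
            (X.presheaf.map (homOfLE (X.basicOpen_le f)).op).hom '' ↑G) := by
  obtain ⟨V, hV, hxV, -⟩ := exists_isAffineOpen_mem_and_subset (Opens.mem_top (π x))
  obtain ⟨_, ⟨_, ⟨f, hf, rfl⟩, rfl⟩, hxf, hfV⟩ := (Scheme.IsQuasiAffine.isBasis_basicOpen X).exists_subset_of_mem_open
    (show x ∈ ((π ⁻¹ᵁ V : X.Opens) : Set X) from hxV) (π ⁻¹ᵁ V).2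
  have hle : X.basicOpen f ≤ π ⁻¹ᵁ V := hfV
  have hloc : IsLocalization.Away f Γ(X, X.basicOpen f) :=
    isLocalization_basicOpen_of_qcqs isCompact_univ isQuasiSeparated_univ f
  have hft := π.finiteType_appLE hV hf hle
  algebraize [(π.appLE V (X.basicOpen f) hle).hom]
  obtain ⟨G₀, hG₀⟩ := (‹Algebra.FiniteType Γ(S, V) Γ(X, X.basicOpen f)›).out
  classical
  let ρ := (X.presheaf.map (homOfLE (X.basicOpen_le f)).op).hom
  have hsurj : ∀ b : Γ(X, X.basicOpen f), ∃ (n : ℕ) (a : Γ(X, ⊤)), ρ f ^ n * b = ρ a := fun b => by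
    obtain ⟨⟨a, ⟨_, n, rfl⟩⟩, h⟩ := IsLocalization.surj (Submonoid.powers f) b
    refine ⟨n, a, ?_⟩
    rw [mul_comm, ← map_pow]
    exact h
  choose nn aa haa using hsurj
  refine ⟨V, f, insert f (G₀.image aa), hle, hV, hf, hxf, fun b => ?_⟩
  let R := Subring.closure (Set.range (π.appLE V (X.basicOpen f) hle).hom ∪ ρ '' ↑(insert f (G₀.image aa)))
  have hfR : ρ f ∈ R := Subring.subset_closure (Or.inr ⟨f, Finset.mem_coe.mpr (Finset.mem_insert_self _ _), rfl⟩)
  have hb : b ∈ (Algebra.adjoin Γ(S, V) (↑G₀ : Set Γ(X, X.basicOpen f))).toSubring := by rw [hG₀]; trivial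
  rw [Algebra.adjoin_eq_ring_closure] at hb
  change ∃ n, ρ f ^ n * b ∈ R
  induction hb using Subring.closure_induction with
  | mem y hy =>
    rcases hy with ⟨s, rfl⟩ | hy
    · exact ⟨0, by rw [pow_zero, one_mul]; exact Subring.subset_closure (Or.inl ⟨s, rfl⟩)⟩
    · refine ⟨nn y, ?_⟩
      rw [haa y]
      exact Subring.subset_closure (Or.inr ⟨aa y,
        Finset.mem_coe.mpr (Finset.mem_insert_of_mem (Finset.mem_image_of_mem aa hy)), rfl⟩)
  | zero => exact ⟨0, by rw [mul_zero]; exact zero_mem R⟩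
  | one => exact ⟨0, by rw [pow_zero, mul_one]; exact one_mem R⟩
  | add y z _ _ hy hz =>
    obtain ⟨m, hm⟩ := hy
    obtain ⟨n, hn⟩ := hz
    refine ⟨m + n, ?_⟩
    rw [show ρ f ^ (m + n) * (y + z) = ρ f ^ n * (ρ f ^ m * y) + ρ f ^ m * (ρ f ^ n * z) by ring]
    exact add_mem (mul_mem (pow_mem hfR n) hm) (mul_mem (pow_mem hfR m) hn)
  | neg y _ hy =>
    obtain ⟨m, hm⟩ := hy
    exact ⟨m, by rw [mul_neg]; exact neg_mem hm⟩
  | mul y z _ _ hy hz =>
    obtain ⟨m, hm⟩ := hy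
    obtain ⟨n, hn⟩ := hz
    refine ⟨m + n, ?_⟩
    rw [show ρ f ^ (m + n) * (y * z) = (ρ f ^ m * y) * (ρ f ^ n * z) by ring]
    exact mul_mem hm hn

/-- A quasi-affine scheme of finite type over any base embeds into an affine space over it. -/
theorem exists_immersion_affineSpace (π : X ⟶ S) [LocallyOfFiniteType π] [X.IsQuasiAffine] :
    ∃ (n : ℕ) (i : X ⟶ 𝔸(ULift.{u} (Fin n); S)), IsImmersion i ∧ i ≫ (𝔸(ULift.{u} (Fin n); S) ↘ S) = π := by
  classical
  choose V f G hle hV hf hxf hgen using exists_chart π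
  obtain ⟨s, hs⟩ := isCompact_univ.elim_finite_subcover (fun x => (X.basicOpen (f x) : Set X))
    (fun x => (X.basicOpen (f x)).2) (fun x _ => Set.mem_iUnion.mpr ⟨x, hxf x⟩)
  let C : Finset Γ(X, ⊤) := s.image f ∪ s.biUnion G
  let en : Fin C.card ≃ C := C.equivFin.symm
  let J : Type u := ULift.{u} (Fin C.card)
  let v : J → Γ(X, ⊤) := fun j => (en j.down).1
  let i : X ⟶ 𝔸(J; S) := homOfVector π v
  have hv : ∀ g ∈ C, ∃ j, v j = g := fun g hg =>
    ⟨⟨en.symm ⟨g, hg⟩⟩, show (en (en.symm ⟨g, hg⟩)).1 = g by rw [Equiv.apply_symm_apply]⟩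
  have hjf : ∀ x : s, ∃ j, v j = f x.1 := fun x =>
    hv _ (Finset.mem_union_left _ (Finset.mem_image_of_mem f x.2))
  choose jf hjf using hjf
  refine ⟨C.card, i, ?_, homOfVector_over π v⟩
  let O : s → 𝔸(J; S).Opens := fun x =>
    (𝔸(J; S) ↘ S) ⁻¹ᵁ V x.1 ⊓ 𝔸(J; S).basicOpen (coord S (jf x))
  have hpre : ∀ x : s, i ⁻¹ᵁ O x = X.basicOpen (f x.1) := fun x => by
    rw [Scheme.Hom.preimage_inf, ← Scheme.Hom.comp_preimage, homOfVector_over π v, Scheme.preimage_basicOpen]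
    rw [show i.app ⊤ (coord S (jf x)) = f x.1 from (homOfVector_appTop_coord π v (jf x)).trans (hjf x)]
    exact inf_eq_right.mpr (hle x.1)
  refine Ample.isImmersion_of_affine_pieces i O (fun x => ?_) (fun y => ?_)
    (fun x => by rw [hpre]; exact hf x.1) fun x => ?_
  · have h1 : IsAffineOpen ((𝔸(J; S) ↘ S) ⁻¹ᵁ V x.1) := (hV x.1).preimage _
    have h2 := h1.basicOpen (𝔸(J; S).presheaf.map (homOfLE le_top).op (coord S (jf x)))
    rwa [Scheme.basicOpen_res] at h2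
  · obtain ⟨x, hx, hyx⟩ := Set.mem_iUnion₂.mp (hs (Set.mem_univ y))
    exact ⟨⟨x, hx⟩, show y ∈ i ⁻¹ᵁ O ⟨x, hx⟩ by rw [hpre]; exact hyx⟩
  have hW : X.basicOpen (f x.1) ≤ i ⁻¹ᵁ O x := (hpre x).ge
  suffices h : Function.Surjective (i.appLE (O x) (X.basicOpen (f x.1)) hW).hom by
    have key : ∀ (T : X.Opens) (hT : T ≤ i ⁻¹ᵁ O x), T = X.basicOpen (f x.1) →
        Function.Surjective (i.appLE (O x) T hT).hom := by
      rintro _ hT rfl
      exact h
    exact key _ _ (hpre x)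
  intro b
  let φ := (i.appLE (O x) (X.basicOpen (f x.1)) hW).hom
  change b ∈ φ.range
  let ρ := (X.presheaf.map (homOfLE (X.basicOpen_le (f x.1))).op).hom
  have hcoord : ∀ j, φ (𝔸(J; S).presheaf.map (homOfLE le_top).op (coord S j)) = ρ (v j) := fun j => by
    rw [← homOfVector_appTop_coord π v j]
    show (𝔸(J; S).presheaf.map (homOfLE le_top).op ≫ i.appLE (O x) _ hW).hom _ =
      (i.appTop ≫ X.presheaf.map (homOfLE (X.basicOpen_le (f x.1))).op).hom _
    rw [Scheme.Hom.map_appLE]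
    rfl
  obtain ⟨n, hn⟩ := hgen x.1 b
  have hnum : ρ (f x.1) ^ n * b ∈ φ.range := by
    refine (Subring.closure_le.mpr ?_) hn
    rintro _ (⟨t, rfl⟩ | ⟨g, hg, rfl⟩)
    · refine ⟨((𝔸(J; S) ↘ S).appLE (V x.1) (O x) inf_le_left).hom t, ?_⟩
      show ((𝔸(J; S) ↘ S).appLE (V x.1) (O x) inf_le_left ≫ i.appLE (O x) _ hW).hom t = _
      rw [Scheme.Hom.appLE_comp_appLE]
      have key : ∀ (q : X ⟶ S) (h : X.basicOpen (f x.1) ≤ q ⁻¹ᵁ V x.1), q = π →
          (q.appLE (V x.1) (X.basicOpen (f x.1)) h).hom t =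
            (π.appLE (V x.1) (X.basicOpen (f x.1)) (hle x.1)).hom t := by
        rintro _ h rfl; rfl
      exact key _ _ (homOfVector_over π v)
    · obtain ⟨j, hj⟩ := hv g (Finset.mem_union_right _ (Finset.mem_biUnion.mpr ⟨x.1, x.2, hg⟩))
      exact ⟨_, (hcoord j).trans (congrArg ρ hj)⟩
  have hu : IsUnit (𝔸(J; S).presheaf.map (homOfLE (le_top : O x ≤ ⊤)).op (coord S (jf x))) :=
    RingedSpace.isUnit_of_isUnit_germ (𝔸(J; S)).toRingedSpace _ _ fun z hz => by
      rw [TopCat.Presheaf.germ_res_apply]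
      exact (Scheme.mem_basicOpen _ (coord S (jf x)) z (Set.mem_univ z)).mp hz.2
  obtain ⟨w, hw⟩ := (hu.pow n).exists_right_inv
  obtain ⟨y, hy⟩ := hnum
  refine ⟨w * y, ?_⟩
  have h1 := congrArg φ hw
  rw [map_mul, map_pow, map_one, hcoord, hjf] at h1
  rw [map_mul, hy, ← mul_assoc, mul_comm (φ w), h1, one_mul]

end GrothLib.AmpleQA
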