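import Groth.Agent.Lib.Ample.Finite

/-!
# Sections of degree one on quasi-affine schemes with affine loci around finite sets
-/

universe u

set_option autoImplicit false
set_option backward.isDefEq.respectTransparency false

open AlgebraicGeometry CategoryTheory CategoryTheory.Limits TopologicalSpace Opposite

noncomputable section

namespace GrothLib.Ample.Cocycle

variable {X : Scheme.{u}} (c : Cocycle X)

/-- Affine loci in one degree around points give affine loci around finite sets in that degree. -/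
theorem exists_affine_locus_finite_deg [CompactSpace X] {N : ℕ}
    (h : ∀ (O : X.Opens) (p : X), p ∈ O → ∃ a : c.sect N ⊤, p ∈ c.locus a ∧ c.locus a ≤ O ∧ IsAffineOpen (c.locus a))
    {Z : Set X} (hZ : Z.Finite) {U : X.Opens} (hZU : Z ⊆ U) :
    ∃ a : c.sect N ⊤, Z ⊆ c.locus a ∧ c.locus a ≤ U ∧ IsAffineOpen (c.locus a) := by
  classical
  obtain ⟨Z', hZ'Z, hdom, hanti⟩ := exists_sep_finite hZ
  rcases Z'.eq_empty_or_nonempty with hemp | hne
  · refine ⟨0, fun z hz => ?_, ?_, ?_⟩
    · obtain ⟨z', hz', -⟩ := hdom z hz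
      simp [hemp] at hz'
    all_goals
      have h0 : c.locus (0 : c.sect N ⊤) = ⊥ := by
        simp [Cocycle.locus, Scheme.basicOpen_zero]
      rw [h0]
    · exact bot_le
    · exact isAffineOpen_bot X
  -- separating opens
  have hsep : ∀ z : Z', ∃ O : X.Opens, (z : X) ∈ O ∧ O ≤ U ∧ ∀ y : Z', y ≠ z → (y : X) ∉ O := by
    intro z
    let T : Set X := ⋃ y ∈ Z'.filter (· ≠ z.1), closure {y}
    have hTc : IsClosed T := Set.Finite.isClosed_biUnion (Z'.filter (· ≠ z.1)).finite_toSet fun _ _ => isClosed_closure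
    refine ⟨U ⊓ ⟨Tᶜ, hTc.isOpen_compl⟩, ⟨hZU (hZ'Z z.2), ?_⟩, inf_le_left, fun y hy hyO => ?_⟩
    · intro hmem
      simp only [T, Set.mem_iUnion] at hmem
      obtain ⟨y, hy, hzy⟩ := hmem
      obtain ⟨hy', hne'⟩ := Finset.mem_filter.mp hy
      exact hne' (hanti y hy' z.1 z.2 (specializes_iff_mem_closure.mpr hzy))
    · exact hyO.2 (Set.mem_biUnion (Finset.mem_filter.mpr ⟨y.2, fun e => hy (Subtype.ext e)⟩)
        (subset_closure rfl))
  choose O hzO hOU hOsep using hsep
  choose t hza haO haff using fun z : Z' => h (O z) z.1 (hzO z)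
  let s := ∑ z, t z
  have hsmem : ∀ z : Z', (z : X) ∈ c.locus s := by
    intro z
    obtain ⟨i, hi⟩ := c.exists_mem (z : X)
    rw [c.mem_locus_iff_isUnit _ hi]
    have key : ∀ y : Z', y ≠ z → ¬ IsUnit (X.presheaf.germ (⊤ ⊓ c.D i) (z : X) ⟨trivial, hi⟩ ((t y).1 i)) := by
      intro y hy hu
      have : (z : X) ∈ c.locus (t y) := (c.mem_locus_iff_isUnit _ hi).mpr hu
      exact hOsep y z (fun e => hy e.symm) (haO y this)
    have hsum : (s.1 i) = ∑ y, (t y).1 i := by
      simp only [s, AddSubmonoidClass.coe_finsetSum, Finset.sum_apply]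
    rw [hsum, map_sum]
    by_contra hns
    have hz : IsUnit (X.presheaf.germ (⊤ ⊓ c.D i) (z : X) ⟨trivial, hi⟩ ((t z).1 i)) := by
      refine (c.mem_locus_iff_isUnit _ hi).mp ?_
      exact hza z
    have hrest : ∑ y ∈ Finset.univ.erase z,
        X.presheaf.germ (⊤ ⊓ c.D i) (z : X) ⟨trivial, hi⟩ ((t y).1 i) ∈
          IsLocalRing.maximalIdeal (X.presheaf.stalk (z : X)) :=
      Ideal.sum_mem _ fun y hy => key y (Finset.mem_erase.mp hy).1
    rw [← Finset.add_sum_erase _ _ (Finset.mem_univ z)] at hns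
    refine (IsLocalRing.mem_maximalIdeal _).mp ?_ hz
    have hall : X.presheaf.germ (⊤ ⊓ c.D i) (z : X) ⟨trivial, hi⟩ ((t z).1 i) + _ ∈
        IsLocalRing.maximalIdeal (X.presheaf.stalk (z : X)) := hns
    exact (Ideal.add_mem_iff_left _ hrest).mp hall
  have hsle : c.locus s ≤ ⨆ z, c.locus (t z) := by
    intro x hx
    obtain ⟨i, hi⟩ := c.exists_mem x
    rw [c.mem_locus_iff_isUnit _ hi] at hx
    by_contra hnx
    have hsum : (s.1 i) = ∑ y, (t y).1 i := by
      simp only [s, AddSubmonoidClass.coe_finsetSum, Finset.sum_apply]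
    rw [hsum, map_sum] at hx
    refine (IsLocalRing.mem_maximalIdeal _).mp (Ideal.sum_mem _ fun y _ => ?_) hx
    intro hu
    exact hnx (Opens.mem_iSup.mpr ⟨y, (c.mem_locus_iff_isUnit _ hi).mpr hu⟩)
  refine ⟨s, fun z hz => ?_, hsle.trans (iSup_le fun z => (haO z).trans (hOU z)), ?_⟩
  · obtain ⟨z', hz', hzz'⟩ := hdom z hz
    exact hzz'.mem_open (c.locus s).2 (hsmem ⟨z', hz'⟩)
  choose f hf hfb using fun z => c.exists_ratio s (t z)
  refine isAffineOpen_of_isAffineOpen_basicOpen (c.locus s) (Set.range f) ?_ ?_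
  · have hone : ∑ z, f z = 1 := by
      refine (c.bijective_hom_app s le_rfl).1 ?_
      show (show c.sect _ _ from (c.hom s).val.app (op (c.locus s)) (∑ z, f z : Γ(X, c.locus s))) =
        (show c.sect _ _ from (c.hom s).val.app (op (c.locus s)) (1 : Γ(X, c.locus s)))
      rw [c.hom_app_apply, c.hom_app_apply, one_smul, Finset.sum_smul]
      rw [← Finset.sum_congr rfl fun z _ => hf z]
      exact (map_sum (c.sectRes (le_top : c.locus s ≤ ⊤)) t Finset.univ).symm
    rw [Ideal.eq_top_iff_one, ← hone]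
    exact Ideal.sum_mem _ fun z _ => Ideal.subset_span ⟨z, rfl⟩
  · rintro _ ⟨z, rfl⟩
    obtain ⟨φ, -, hφ⟩ := c.exists_ratio (t z) s
    rw [hfb z, inf_comm, ← hφ]
    exact (haff z).basicOpen φ

/-- A function as a section of degree zero. -/
def fnSect (f : Γ(X, ⊤)) : c.sect 0 ⊤ :=
  ⟨fun _ => res inf_le_left f, fun i j W hi hj => by simp only [pow_zero, one_mul, res_res]⟩

theorem locus_fnSect (f : Γ(X, ⊤)) : c.locus (c.fnSect f) = X.basicOpen f := by
  show (⨆ i, X.basicOpen (res inf_le_left f)) = _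
  simp only [res, Scheme.basicOpen_res, top_inf_eq]
  rw [← iSup_inf_eq, c.cover, top_inf_eq]

/-- On a quasi-affine scheme every invertible module has affine loci of degree one near each point. -/
theorem exists_affine_locus_le_one [X.IsQuasiAffine] (O : X.Opens) (p : X) (hp : p ∈ O) :
    ∃ a : c.sect 1 ⊤, p ∈ c.locus a ∧ c.locus a ≤ O ∧ IsAffineOpen (c.locus a) := by
  have : QuasiSeparatedSpace X := quasiSeparatedSpace_of_isAmple (isQuasiAffine_iff.mp inferInstance)
  obtain ⟨i, hi⟩ := c.exists_mem p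
  obtain ⟨_, ⟨_, ⟨f, hf, rfl⟩, rfl⟩, hpf, hfO⟩ :=
    (Scheme.IsQuasiAffine.isBasis_basicOpen X).exists_subset_of_mem_open
      (show p ∈ ((O ⊓ c.D i : X.Opens) : Set X) from ⟨hp, hi⟩) (O ⊓ c.D i).2
  let a := c.fnSect f
  have hloc : c.locus a = X.basicOpen f := c.locus_fnSect f
  have hle : c.locus a ≤ O ⊓ c.D i := hloc.trans_le hfO
  let β : c.sect 1 (c.locus a) := c.base 1 i (hle.trans inf_le_right)
  obtain ⟨m, b, hb⟩ := c.exists_extend_sect a β
  have hdeg : 0 + (1 + 0 * m) = 1 := by rw [Nat.zero_mul]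
  refine ⟨c.sectCast hdeg (c.mul a b), ?_, ?_, ?_⟩
  · rw [c.locus_sectCast, c.locus_mul]
    refine ⟨by rw [hloc]; exact hpf, ?_⟩
    obtain ⟨l, hl⟩ := c.exists_mem p
    have hpA : p ∈ c.locus a := by rw [hloc]; exact hpf
    let T : X.Opens := c.locus a ⊓ c.D l
    have e := congrArg (fun x : c.sect (1 + 0 * m) (c.locus a) => x.1 l) hb
    simp only [sectRes_apply, powMul_apply, res_self] at e
    have hu : IsUnit (X.presheaf.germ T p ⟨hpA, hl⟩
        (res (inf_le_inf_right _ (le_top : c.locus a ≤ ⊤)) (b.1 l))) := by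
      rw [e, map_mul, map_pow]
      refine IsUnit.mul ?_ (IsUnit.pow m ?_)
      · refine IsUnit.map _ ?_
        rw [show β.1 l = _ from c.base_apply 1 i (hle.trans inf_le_right) l]
        exact (c.isUnit_G _ _ _ _).pow 1
      · rw [show a.1 l = res inf_le_left f from rfl, res_res]
        show IsUnit (X.presheaf.germ T p ⟨hpA, hl⟩ (X.presheaf.map (homOfLE le_top).op f))
        rw [TopCat.Presheaf.germ_res_apply]
        exact (X.mem_basicOpen f p trivial).mp hpf
    rw [SetLike.mem_coe, c.mem_locus_iff_isUnit _ hl]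
    rwa [res, TopCat.Presheaf.germ_res_apply] at hu
  · rw [c.locus_sectCast, c.locus_mul]
    exact inf_le_left.trans (hle.trans inf_le_left)
  · rw [c.locus_sectCast, c.locus_mul, hloc]
    exact c.isAffineOpen_locus_of_le (c.mul a b) hf (by rw [c.locus_mul, hloc]; exact inf_le_left) |> fun h => by
      rwa [c.locus_mul, hloc] at h

end GrothLib.Ample.Cocycle
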